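import Cfsg.Agent.Lib.SigmaFixed.Tools
import Cfsg.Agent.Lib.BlockA.Galois
import Cfsg.Agent.Lib.Char.Column

/-!
A character of even degree fixed by a Galois map inverting the elements of odd order, from a
local count of products of two conjugates of an inverted element of odd order.
-/

set_option autoImplicit false
set_option linter.unusedSectionVars false

namespace CfsgLib.SigmaFixed

open Cfsg CfsgLib.Block
open CfsgLib.BlockB (IsPElt)
open scoped ComplexConjugate

variable {G : Type*} [Group G] [Fintype G]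

/-- The image of a character under a power map prime to the order. -/
noncomputable def powChar {k : ℕ} (hk : k.Coprime (Nat.card G)) (χ : IrrCharacter G) :
    IrrCharacter G :=
  ⟨fun g => (χ : G → ℂ) (g ^ k), CfsgLib.BlockA.isIrrCharacter_comp_pow hk χ.2⟩

theorem powChar_involutive {k : ℕ} (hk : k.Coprime (Nat.card G))
    (hkk : ∀ g : G, (g ^ k) ^ k = g) : Function.Involutive (powChar hk) := fun χ =>
  Subtype.ext (funext fun g => by simp only [powChar, hkk])

theorem powChar_eq_iff {k : ℕ} (hk : k.Coprime (Nat.card G)) (χ : IrrCharacter G) :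
    powChar hk χ = χ ↔ ∀ g : G, (χ : G → ℂ) (g ^ k) = (χ : G → ℂ) g := by
  simp [powChar, Subtype.ext_iff, funext_iff]

theorem charDegree_powChar {k : ℕ} (hk : k.Coprime (Nat.card G)) (χ : IrrCharacter G) :
    charDegree (powChar hk χ : G → ℂ) = charDegree (χ : G → ℂ) := by
  simp [charDegree, powChar]

/-- Numbers with the same parity differ by an element of the local ideal at two. -/
theorem memLocalIdeal_sub_of_mod_two {M : Ideal AlgInt} (hM : IsPModular 2 M) {a b : ℕ}
    (h : a % 2 = b % 2) : MemLocalIdeal M ((a : ℂ) - b) := by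
  have := isPrime_of_pmodular hM
  have e : (a : ℂ) - b = (2 : ℕ) * (((a / 2 : ℕ) : ℂ) - ((b / 2 : ℕ) : ℂ)) := by
    have ha : (a : ℂ) = ((2 * (a / 2) + a % 2 : ℕ) : ℂ) := by rw [Nat.div_add_mod]
    have hb : (b : ℂ) = ((2 * (b / 2) + b % 2 : ℕ) : ℂ) := by rw [Nat.div_add_mod]
    conv_lhs => rw [ha, hb, h]
    push_cast
    ring
  rw [e]
  exact memLocalIdeal_mul_right ((lring M).sub_mem (memLocalRing_natCast _) (memLocalRing_natCast _))
    ((memLocalIdeal_natCast_iff hM 2).2 dvd_rfl)

/-- The coefficient of a product of two class sums of the same class, as a count. -/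
theorem coeff_classSum_sq (y c : G) [DecidablePred fun a : G => IsConj y a ∧ IsConj y (a⁻¹ * c)] :
    (classSum ℂ y * classSum ℂ y).coeff c =
      ((Finset.univ.filter fun a : G => IsConj y a ∧ IsConj y (a⁻¹ * c)).card : ℂ) := by
  classical
  rw [coeff_mul_eq, Finset.natCast_card_filter]
  refine Finset.sum_congr rfl fun a _ => ?_
  rw [coeff_classSum, coeff_classSum]
  split_ifs <;> simp_all

/-- The coefficients of the square of a class sum on a centraliser, modulo two. -/
theorem classSum_sq_parity {M : Ideal AlgInt} (hM : IsPModular 2 M) {D : Subgroup G}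
    (hD : IsPGroup 2 D) {C : Subgroup G} (hC : C = Subgroup.centralizer (D : Set G)) [Fintype C]
    {y : G} [DecidablePred (IsConj y)] (c : C) :
    MemLocalIdeal M ((classSum ℂ y * classSum ℂ y).coeff (c : G) -
      (mkGA (fun a : C => if IsConj y (a : G) then (1 : ℂ) else 0) *
        mkGA (fun a : C => if IsConj y (a : G) then (1 : ℂ) else 0)).coeff c) := by
  classical
  have : Fact (Nat.Prime 2) := ⟨Nat.prime_two⟩
  letI : MulAction D G := MulAction.compHom G ((MulAut.conj (G := G)).comp D.subtype)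
  have hsmul : ∀ (d : D) (a : G), d • a = (d : G) * a * (d : G)⁻¹ := fun _ _ => rfl
  have hcd : ∀ d : D, (d : G) * (c : G) * (d : G)⁻¹ = (c : G) := fun d => by
    have h := Subgroup.mem_centralizer_iff.1 (hC.le c.2)
    rw [h _ d.2, mul_inv_cancel_right]
  let f : G → ZMod 2 := fun a => if IsConj y a ∧ IsConj y (a⁻¹ * (c : G)) then 1 else 0
  have hconj : ∀ g a : G, IsConj y (g * a * g⁻¹) ↔ IsConj y a := fun g a =>
    ⟨fun h => h.trans (isConj_iff.2 ⟨g⁻¹, by group⟩), fun h => h.trans (isConj_iff.2 ⟨g, rfl⟩)⟩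
  have hfix := sum_eq_sum_fixed hD (α := G) (N := ZMod 2)
    (fun v => by rw [nsmul_eq_mul, CharP.cast_eq_zero (ZMod 2) 2, zero_mul]) f (fun d a => by
      simp only [f, hsmul, hconj]
      congr 2
      rw [show ((d : G) * a * (d : G)⁻¹)⁻¹ * (c : G) =
        (d : G) * (a⁻¹ * ((d : G)⁻¹ * (c : G) * (d : G))) * (d : G)⁻¹ by group, hconj]
      have := hcd d
      rw [show (d : G)⁻¹ * (c : G) * (d : G) = (c : G) by
        conv_lhs => rw [← this]
        group])
  simp only [f, Finset.sum_boole] at hfix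
  rw [← ZMod.natCast_mod, ← ZMod.natCast_mod (n := 2) (Finset.card _)] at hfix
  have hcard := congrArg ZMod.val hfix
  simp only [ZMod.val_natCast, Nat.mod_mod] at hcard
  rw [coeff_classSum_sq]
  have hB : (mkGA (fun a : C => if IsConj y (a : G) then (1 : ℂ) else 0) *
      mkGA (fun a : C => if IsConj y (a : G) then (1 : ℂ) else 0)).coeff c =
      ((Finset.univ.filter fun a : C =>
        IsConj y (a : G) ∧ IsConj y ((a⁻¹ * c : C) : G)).card : ℂ) := by
    rw [coeff_mul_eq, Finset.natCast_card_filter]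
    refine Finset.sum_congr rfl fun a _ => ?_
    simp only [coeff_mkGA]
    split_ifs <;> simp_all
  rw [hB]
  refine memLocalIdeal_sub_of_mod_two hM (hcard.trans ?_)
  congr 1
  symm
  refine Finset.card_bij (fun a _ => (a : G)) ?_ (fun a _ b _ h => Subtype.ext h) ?_
  · intro a ha
    simp only [Finset.mem_filter, Finset.mem_univ, true_and, Subgroup.coe_mul,
      Subgroup.coe_inv] at ha ⊢
    refine ⟨fun d => ?_, ha⟩
    have h := Subgroup.mem_centralizer_iff.1 (hC.le a.2)
    rw [hsmul, h _ d.2, mul_inv_cancel_right]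
  · intro a ha
    simp only [Finset.mem_filter, Finset.mem_univ, true_and] at ha
    refine ⟨⟨a, ?_⟩, ?_, rfl⟩
    · refine hC.ge (Subgroup.mem_centralizer_iff.2 ?_)
      intro d hd
      have := ha.1 ⟨d, hd⟩
      rw [hsmul] at this
      exact mul_inv_eq_iff_eq_mul.1 this
    · simp only [Finset.mem_filter, Finset.mem_univ, true_and, Subgroup.coe_mul, Subgroup.coe_inv]
      exact ha.2

open scoped Classical in
/-- A character of even degree fixed by the power map, from the local data at an inverted element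
of odd order. -/
theorem exists_fixed_even_of_local {M : Ideal AlgInt} (hM : IsPModular 2 M) {k : ℕ}
    (hk : k.Coprime (Nat.card G)) (hkk : ∀ g : G, (g ^ k) ^ k = g)
    {D : Subgroup G} (hD : IsPGroup 2 D) {C : Subgroup G}
    (hC : C = Subgroup.centralizer (D : Set G)) (hodd : Odd C.index)
    {X : Type*} [Group X] [Fintype X] (π : C →* X) (hπ : Function.Surjective π)
    (hk2 : ∀ x : X, IsPElt 2 x → x ^ k = x)
    {y : G} (hyk : y ^ k = y⁻¹) (hreal : IsConj y y⁻¹)
    {e m : ℕ} (he : 1 ≤ e) (hX : Nat.card X = 2 ^ e * m) (hm : Odd m)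
    (hK : 2 ^ e ∣ (Subgroup.centralizer ({y} : Set G)).index)
    (hinj : ∀ a b : C, IsConj y (a : G) → IsConj y (b : G) → π a = π b → a = b)
    (hcl : ∀ a : C, IsConj y (a : G) →
      2 ^ e ∣ (Subgroup.centralizer ({π a} : Set X)).index)
    {u : ℕ} (hu : Odd u) (hcard : Nat.card {a : C // IsConj y (a : G)} = 2 ^ e * u)
    {q : ℕ} (hq : Odd q) (hpc : ∀ a : C, IsConj y (a : G) → pairCount (π a) = q) :
    ∃ χ : IrrCharacter G, Even (charDegree (χ : G → ℂ)) ∧
      ∀ g : G, (χ : G → ℂ) (g ^ k) = (χ : G → ℂ) g := by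
  have := isPrime_of_pmodular hM
  have : Fact (Nat.Prime 2) := ⟨Nat.prime_two⟩
  have := Fintype.ofFinite (IrrCharacter G)
  have := Fintype.ofFinite (IrrCharacter X)
  by_contra hcon
  push Not at hcon
  have hfixodd : ∀ χ : IrrCharacter G, powChar hk χ = χ → ¬ 2 ∣ charDegree (χ : G → ℂ) := by
    intro χ hχ hd
    obtain ⟨g, hg⟩ := hcon χ (even_iff_two_dvd.2 hd)
    exact hg ((powChar_eq_iff hk χ).1 hχ g)
  have h2e : ((2 ^ e : ℕ) : ℂ) ≠ 0 := by exact_mod_cast (by positivity : 2 ^ e ≠ 0)
  -- the power map on `C` and on `X`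
  have hkX : k.Coprime (Nat.card X) :=
    hk.coprime_dvd_right ((Subgroup.card_dvd_of_surjective π hπ).trans C.card_subgroup_dvd_card)
  have hkC : ∀ a : C, (a ^ k) ^ k = a := fun a => Subtype.ext (by simp [hkk])
  have hkkX : ∀ x : X, (x ^ k) ^ k = x := by
    intro x
    obtain ⟨a, rfl⟩ := hπ x
    rw [← map_pow, ← map_pow, hkC]
  -- the function on `C`
  let cθ : IrrCharacter X → ℂ := fun θ =>
    if 2 ^ e ∣ charDegree (θ : X → ℂ) then twoScalar e (θ : X → ℂ) ^ 4 else 0
  have hcθR : ∀ θ, MemLocalRing M (cθ θ) := by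
    intro θ
    simp only [cθ]
    split_ifs
    · exact Subring.pow_mem (lring M) (twoScalar_memLocalRing hM hX
        (CfsgLib.Char.irr_isCharacter θ.2)) 4
    · exact (lring M).zero_mem
  have hcθk : ∀ θ, cθ (powChar hkX θ) = cθ θ := by
    intro θ
    simp only [cθ, charDegree_powChar]
    rw [show twoScalar e ((powChar hkX θ : IrrCharacter X) : X → ℂ) = twoScalar e (θ : X → ℂ) from
      twoScalar_comp_pow hk2 e _]
  let Θ : C → ℂ := fun c => ∑ θ : IrrCharacter X, cθ θ * (θ : X → ℂ) (π c)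
  have hΘk : ∀ c : C, Θ (c ^ k) = Θ c := by
    intro c
    simp only [Θ, map_pow]
    conv_rhs => rw [← Equiv.sum_comp ((powChar_involutive hkX hkkX).toPerm _)]
    refine Finset.sum_congr rfl fun θ _ => ?_
    simp only [Function.Involutive.coe_toPerm, hcθk]
    rfl
  let nc : IrrCharacter G → ℂ := fun χ =>
    (Nat.card C : ℂ)⁻¹ * ∑ c : C, Θ c * (χ : G → ℂ) (c : G)⁻¹
  have hncR : ∀ χ, MemLocalRing M (nc χ) := by
    intro χ
    have hval : nc χ = ∑ θ : IrrCharacter X, cθ θ *
        Cfsg.classInner (fun c : C => (θ : X → ℂ) (π c)) (fun c : C => (χ : G → ℂ) (c : G)) := by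
      simp only [nc, Θ, CfsgLib.Char.classInner_def, irr_conj_eq χ.2, Finset.sum_mul,
        Finset.mul_sum]
      rw [Finset.sum_comm]
      refine Finset.sum_congr rfl fun θ _ => Finset.sum_congr rfl fun c _ => ?_
      ring
    rw [hval]
    refine memLocalRing_sum _ _ fun θ _ => memLocalRing_mul (hcθR θ) ?_
    obtain ⟨j, hj⟩ := CfsgLib.Char.classInner_isCharacter_nat
      (CfsgLib.Char.isCharacter_comp (CfsgLib.Char.irr_isCharacter θ.2) π)
      (CfsgLib.Char.isCharacter_restrict (CfsgLib.Char.irr_isCharacter χ.2) C)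
    rw [show Cfsg.classInner (fun c : C => (θ : X → ℂ) (π c)) (fun c : C => (χ : G → ℂ) (c : G)) =
      (j : ℂ) from hj]
    exact memLocalRing_natCast j
  have hnck : ∀ χ, nc (powChar hk χ) = nc χ := by
    intro χ
    simp only [nc]
    congr 1
    conv_rhs => rw [← Equiv.sum_comp ((show Function.Involutive (fun a : C => a ^ k) from
      hkC).toPerm _)]
    refine Finset.sum_congr rfl fun c _ => ?_
    simp only [Function.Involutive.coe_toPerm, hΘk, powChar, Subgroup.coe_pow, inv_pow]
  -- the sum over the characters of `G`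
  obtain ⟨l, hl⟩ := hK
  let ω : IrrCharacter G → ℂ := fun χ => centralChar (χ : G → ℂ) y
  let f : IrrCharacter G → ℂ := fun χ => nc χ * (χ : G → ℂ) 1 * ω χ ^ 2
  have hωk : ∀ χ, ω (powChar hk χ) = ω χ := by
    intro χ
    simp only [ω, centralChar, powChar, one_pow, hyk]
    rw [CfsgLib.Char.isClassFunction_isConj (CfsgLib.Char.irr_isClassFunction χ.2) hreal.symm]
  have hfk : ∀ χ, f (powChar hk χ) = f χ := by
    intro χ
    simp only [f, hnck, hωk]
    simp [powChar]
  have hωval : ∀ χ : IrrCharacter G, (χ : G → ℂ) 1 * ω χ =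
      (2 ^ e : ℕ) * ((l : ℂ) * (χ : G → ℂ) y) := by
    intro χ
    simp only [ω, centralChar, hl]
    have h1 := CfsgLib.Char.irr_apply_one_ne_zero χ.2
    push_cast
    field_simp
  have hfval : ∀ χ : IrrCharacter G, f χ / (2 ^ e : ℕ) = nc χ * ((l : ℂ) * (χ : G → ℂ) y) * ω χ := by
    intro χ
    simp only [f]
    rw [show nc χ * (χ : G → ℂ) 1 * ω χ ^ 2 = nc χ * ((χ : G → ℂ) 1 * ω χ) * ω χ by ring, hωval]
    field_simp
  have hfR : ∀ χ : IrrCharacter G, MemLocalRing M (f χ / (2 ^ e : ℕ)) := by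
    intro χ
    rw [hfval]
    exact memLocalRing_mul (memLocalRing_mul (hncR χ) (memLocalRing_mul (memLocalRing_natCast l)
      (memLocalRing_of_isIntegral (irr_apply_isIntegral (CfsgLib.Char.irr_isCharacter χ.2) y))))
      (memLocalRing_centralChar χ.2 y)
  have hlhs : MemLocalIdeal M ((∑ χ : IrrCharacter G, f χ) / (2 ^ e : ℕ)) := by
    obtain ⟨t, -, ht⟩ := sum_involution_split (Finset.univ : Finset (IrrCharacter G))
      (powChar hk) (fun χ _ => Finset.mem_univ _) (fun χ _ => powChar_involutive hk hkk χ)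
      f (fun χ _ => hfk χ)
    rw [ht, add_div, nsmul_eq_mul, mul_div_assoc, Finset.sum_div, Finset.sum_div]
    refine memLocalIdeal_add (memLocalIdeal_sum _ _ fun χ hχ => ?_)
      (memLocalIdeal_mul_right (memLocalRing_sum _ _ fun χ _ => hfR χ)
        ((memLocalIdeal_natCast_iff hM 2).2 dvd_rfl))
    have hd := hfixodd χ (Finset.mem_filter.1 hχ).2
    have hd1 : (χ : G → ℂ) 1 = (charDegree (χ : G → ℂ) : ℂ) :=
      (CfsgLib.BlockB.irr_degree_cast χ).symm
    have hωid : MemLocalIdeal M (ω χ) := by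
      have h := hωval χ
      rw [hd1] at h
      have hd0 : (charDegree (χ : G → ℂ) : ℂ) ≠ 0 := by
        rw [← hd1]; exact CfsgLib.Char.irr_apply_one_ne_zero χ.2
      have : ω χ = ((2 ^ e : ℕ) : ℂ) *
          ((charDegree (χ : G → ℂ) : ℂ)⁻¹ * ((l : ℂ) * (χ : G → ℂ) y)) := by
        field_simp
        linear_combination h
      rw [this]
      exact memLocalIdeal_mul_right (memLocalRing_mul (memLocalRing_inv_natCast hM hd)
        (memLocalRing_mul (memLocalRing_natCast l)
          (memLocalRing_of_isIntegral (irr_apply_isIntegral (CfsgLib.Char.irr_isCharacter χ.2) y))))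
        ((memLocalIdeal_natCast_iff hM _).2 (dvd_pow_self 2 (by omega)))
    rw [hfval]
    exact memLocalIdeal_mul_left (memLocalRing_mul (hncR χ) (memLocalRing_mul
      (memLocalRing_natCast l)
      (memLocalRing_of_isIntegral (irr_apply_isIntegral (CfsgLib.Char.irr_isCharacter χ.2) y)))) hωid
  -- column orthogonality moves the sum into `C`
  let W : MonoidAlgebra ℂ G := classSum ℂ y * classSum ℂ y
  have hW : IsClassCoeff W := isClassCoeff_iff_mem_center.2 (Subalgebra.mul_mem _
    (classSum_mem_center y) (classSum_mem_center y))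
  have htransfer : ∑ χ : IrrCharacter G, f χ =
      (C.index : ℂ) * ∑ c : C, Θ c * W.coeff (c : G) := by
    have hCc : (Nat.card C : ℂ) ≠ 0 := CfsgLib.Char.natCard_ne_zero
    have hG : (Nat.card G : ℂ) = (C.index : ℂ) * (Nat.card C : ℂ) := by
      exact_mod_cast C.index_mul_card.symm
    have h1 : ∀ c : C, (C.index : ℂ) * (Θ c * W.coeff (c : G)) = (Nat.card C : ℂ)⁻¹ * (Θ c *
        ∑ χ : IrrCharacter G, (χ : G → ℂ) (c : G)⁻¹ * (χ : G → ℂ) 1 *
          omegaC (χ : G → ℂ) W) := by
      intro c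
      rw [sum_irr_omegaC hW, hG]
      field_simp
    rw [Finset.mul_sum, Finset.sum_congr rfl fun c _ => h1 c]
    simp only [Finset.mul_sum]
    rw [Finset.sum_comm]
    refine Finset.sum_congr rfl fun χ _ => ?_
    simp only [f, nc, ω, W, omegaC_mul χ.2 (classSum_isClassCoeff y),
      omegaC_classSum (CfsgLib.Char.irr_isClassFunction χ.2), Finset.mul_sum, Finset.sum_mul]
    refine Finset.sum_congr rfl fun c _ => ?_
    ring
  have hΘW : MemLocalIdeal M ((∑ c : C, Θ c * W.coeff (c : G)) / (2 ^ e : ℕ)) := by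
    have hi : ¬ 2 ∣ C.index := Nat.two_dvd_ne_zero.2 (Nat.odd_iff.1 hodd)
    have hi0 : (C.index : ℂ) ≠ 0 := by exact_mod_cast Subgroup.index_ne_zero_of_finite
    have heq : (∑ c : C, Θ c * W.coeff (c : G)) / (2 ^ e : ℕ) =
        (C.index : ℂ)⁻¹ * ((∑ χ : IrrCharacter G, f χ) / (2 ^ e : ℕ)) := by
      rw [htransfer]
      field_simp
    rw [heq]
    exact memLocalIdeal_mul_left (memLocalRing_inv_natCast hM hi) hlhs
  -- the group algebra of `C`
  have hconj : ∀ g a : G, IsConj y (g * a * g⁻¹) ↔ IsConj y a := fun g a =>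
    ⟨fun h => h.trans (isConj_iff.2 ⟨g⁻¹, by group⟩), fun h => h.trans (isConj_iff.2 ⟨g, rfl⟩)⟩
  let Kel : MonoidAlgebra ℂ C := mkGA fun a => if IsConj y (a : G) then 1 else 0
  have hKel : IsClassCoeff Kel := mkGA_isClassCoeff fun a b => by
    simp only [Subgroup.coe_mul, Subgroup.coe_inv, hconj]
  let Wel : MonoidAlgebra ℂ C := mkGA fun a => W.coeff (a : G)
  have hWel : IsClassCoeff Wel := mkGA_isClassCoeff fun a b => by
    simp only [Subgroup.coe_mul, Subgroup.coe_inv]
    exact hW _ _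
  have hKK : IsClassCoeff (Kel * Kel) := isClassCoeff_iff_mem_center.2 (Subalgebra.mul_mem _
    (isClassCoeff_iff_mem_center.1 hKel) (isClassCoeff_iff_mem_center.1 hKel))
  -- the union of the images of the classes
  let K : X → Prop := fun z => ∃ a : C, IsConj y (a : G) ∧ π a = z
  have hKc : ∀ z h : X, K (h * z * h⁻¹) ↔ K z := by
    have hmp : ∀ z h : X, K z → K (h * z * h⁻¹) := by
      rintro z h ⟨a, ha, rfl⟩
      obtain ⟨b, rfl⟩ := hπ h
      exact ⟨b * a * b⁻¹, by simpa only [Subgroup.coe_mul, Subgroup.coe_inv, hconj] using ha, by simp⟩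
    refine fun z h => ⟨fun hz => ?_, hmp z h⟩
    have := hmp _ h⁻¹ hz
    rwa [show h⁻¹ * (h * z * h⁻¹) * h⁻¹⁻¹ = z by group] at this
  have hKi : ∀ z, K z → K z⁻¹ := by
    rintro z ⟨a, ha, rfl⟩
    refine ⟨a⁻¹, hreal.trans ?_, map_inv π a⟩
    obtain ⟨g, hg⟩ := isConj_iff.1 ha
    exact isConj_iff.2 ⟨g, by rw [Subgroup.coe_inv, ← hg]; group⟩
  have himg : (Finset.univ.filter K) =
      (Finset.univ.filter fun a : C => IsConj y (a : G)).image π := by
    ext z
    simp [K]
  have hinjOn : Set.InjOn π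
      ((Finset.univ.filter fun a : C => IsConj y (a : G) : Finset C) : Set C) := fun a ha b hb h =>
    hinj a b (Finset.mem_filter.1 ha).2 (Finset.mem_filter.1 hb).2 h
  have hKcard : (Finset.univ.filter K).card = 2 ^ e * u := by
    rw [himg, Finset.card_image_of_injOn hinjOn, ← hcard, Nat.card_eq_fintype_card,
      Fintype.card_subtype]
  refine not_memLocalIdeal_full_sum (X := X) hM hX hm K hKc hKi
    (fun z ⟨a, ha, hz⟩ => hz ▸ hcl a ha) hu hKcard hq (fun z ⟨a, ha, hz⟩ => hz ▸ hpc a ha) ?_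
  -- compare with the sum over `C`
  have hωX : ∀ θ : IrrCharacter X,
      omegaC (θ : X → ℂ) (mkGA fun z => if K z then 1 else 0) =
      omegaC (fun c : C => (θ : X → ℂ) (π c)) Kel := by
    intro θ
    simp only [Kel, omegaC_mkGA, map_one, ite_mul, one_mul, zero_mul]
    rw [← Finset.sum_filter, ← Finset.sum_filter, himg, Finset.sum_image hinjOn]
  have hexp : (∑ c : C, Θ c * W.coeff (c : G)) / (2 ^ e : ℕ) = ∑ θ : IrrCharacter X, cθ θ *
      ((θ : X → ℂ) 1 * omegaC (fun c : C => (θ : X → ℂ) (π c)) Wel) / (2 ^ e : ℕ) := by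
    rw [← Finset.sum_div]
    congr 1
    simp only [Θ, Finset.sum_mul]
    rw [Finset.sum_comm]
    refine Finset.sum_congr rfl fun θ _ => ?_
    simp only [Wel, omegaC_mkGA, map_one,
      mul_div_cancel₀ _ (CfsgLib.Char.irr_apply_one_ne_zero θ.2), Finset.mul_sum]
    exact Finset.sum_congr rfl fun c _ => by ring
  have hdiff : ∀ θ : IrrCharacter X, MemLocalIdeal M
      (cθ θ * ((θ : X → ℂ) 1 * omegaC (fun c : C => (θ : X → ℂ) (π c)) Wel) / (2 ^ e : ℕ) -
        if 2 ^ e ∣ charDegree (θ : X → ℂ) then twoScalar e (θ : X → ℂ) ^ 4 *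
          omegaC (θ : X → ℂ) (mkGA fun z => if K z then 1 else 0) ^ 2 else 0) := by
    intro θ
    have hcR := hcθR θ
    simp only [cθ] at hcR ⊢
    split_ifs at hcR ⊢ with hfull
    · have hθ := CfsgLib.Char.isIrrCharacter_comp_surjective θ.2 π hπ
      obtain ⟨o, ho⟩ := hfull
      have hoodd : ¬ 2 ∣ o := by
        intro h2
        have hdvd : 2 * 2 ^ e ∣ 2 ^ e * m := by
          refine dvd_trans ?_ (hX ▸ CfsgLib.BlockB.irr_degree_dvd_card θ)
          rw [ho, mul_comm]
          exact Nat.mul_dvd_mul_left _ h2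
        rw [mul_comm 2] at hdvd
        exact Nat.not_even_iff_odd.2 hm
          (even_iff_two_dvd.2 (Nat.dvd_of_mul_dvd_mul_left (by positivity) hdvd))
      have h1 : (θ : X → ℂ) 1 = ((2 ^ e : ℕ) : ℂ) * (o : ℂ) := by
        rw [← Nat.cast_mul, ← ho, CfsgLib.BlockB.irr_degree_cast θ]
      set A := omegaC (fun c : C => (θ : X → ℂ) (π c)) Wel with hA
      set B := omegaC (fun c : C => (θ : X → ℂ) (π c)) Kel with hB
      have hAR : MemLocalRing M A := memLocalRing_omegaC hθ ⟨hWel, fun c => by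
        simp only [Wel, coeff_mkGA, W]
        exact (isLocalCentral_mul (isLocalCentral_classSum y) (isLocalCentral_classSum y)).2 _⟩
      have hdv : ∀ c : C, (Wel + (-1 : ℂ) • (Kel * Kel)).coeff c =
          Wel.coeff c - (Kel * Kel).coeff c := fun c => by
        rw [MonoidAlgebra.coeff_add, MonoidAlgebra.coeff_smul, Finsupp.add_apply,
          Finsupp.smul_apply, smul_eq_mul]
        ring
      have hAB : MemLocalIdeal M (A - B ^ 2) := by
        have h := memLocalIdeal_omegaC (M := M) hθ (a := Wel + (-1 : ℂ) • (Kel * Kel))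
          (fun a b => by rw [hdv, hdv, hWel a b, hKK a b]) (fun c => by
            rw [hdv]
            simp only [Wel, coeff_mkGA]
            exact classSum_sq_parity hM hD hC c)
        rw [omegaC_add, omegaC_smul, omegaC_mul hθ hKel] at h
        convert h using 1
        rw [hA, hB]
        show _ = omegaC (fun c : C => (θ : X → ℂ) (π c)) Wel + -1 *
          (omegaC (fun c : C => (θ : X → ℂ) (π c)) Kel *
            omegaC (fun c : C => (θ : X → ℂ) (π c)) Kel)
        ring
      rw [hωX θ, h1]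
      have : twoScalar e (θ : X → ℂ) ^ 4 * (((2 ^ e : ℕ) : ℂ) * (o : ℂ) * A) / (2 ^ e : ℕ) -
          twoScalar e (θ : X → ℂ) ^ 4 * B ^ 2 =
          twoScalar e (θ : X → ℂ) ^ 4 * (((o : ℂ) - (1 : ℕ)) * A + (A - B ^ 2)) := by
        push_cast
        field_simp
        ring
      rw [this]
      exact memLocalIdeal_mul_left hcR (memLocalIdeal_add (memLocalIdeal_mul_right hAR
        (memLocalIdeal_sub_of_mod_two hM (by omega))) hAB)
    · simpa using memLocalIdeal_zero (M := M)
  have := memLocalIdeal_sub hΘW (memLocalIdeal_sum Finset.univ _ fun θ _ => hdiff θ)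
  rw [hexp, Finset.sum_sub_distrib, sub_sub_cancel, ← Finset.sum_filter] at this
  exact this

end CfsgLib.SigmaFixed
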