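import Cfsg.Agent.Lib.SigmaFixed.Central
import Cfsg.Agent.Lib.KnownA.QdFree
import Cfsg.Agent.Lib.KnownA.NilMax
import Mathlib.GroupTheory.SpecificGroups.Cyclic

/-!
A simple group with commutative Sylow 2-subgroups has a character of even degree fixed by the
Galois map that fixes the 2-elements and inverts the elements of odd order.
-/

set_option autoImplicit false
set_option linter.unusedSectionVars false

namespace CfsgLib.SigmaFixed

open Cfsg
open CfsgLib.BlockB (IsPElt isPElt_conj)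

variable {G : Type*} [Group G] [Finite G]

theorem isPElt_two_of_pow {x : G} {j : ℕ} (h : x ^ 2 ^ j = 1) : IsPElt 2 x := by
  obtain ⟨i, -, hi⟩ := (Nat.dvd_prime_pow Nat.prime_two).1 (orderOf_dvd_of_pow_eq_one h)
  exact ⟨i, hi⟩

theorem isPElt_two_of_mem {T : Subgroup G} (hT : IsPGroup 2 T) {x : G} (hx : x ∈ T) :
    IsPElt 2 x := by
  obtain ⟨j, hj⟩ := hT ⟨x, hx⟩
  exact isPElt_two_of_pow (j := j) (congrArg Subtype.val hj)

/-- A factor `a` of a 2-power times an odd number is a 2-power times an odd number. -/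
theorem exists_odd_cofactor {a o o' e : ℕ} (ho : Odd o) (ho' : Odd o') (h : a * o = 2 ^ e * o') :
    ∃ u, Odd u ∧ a = 2 ^ e * u := by
  obtain ⟨u, rfl⟩ : 2 ^ e ∣ a :=
    (Nat.Coprime.pow_left e (Nat.coprime_two_left.2 ho)).dvd_of_dvd_mul_right ⟨o', h⟩
  refine ⟨u, ?_, rfl⟩
  rw [mul_assoc] at h
  have := Nat.eq_of_mul_eq_mul_left (by positivity) h
  exact (Nat.odd_mul.1 (this ▸ ho')).1

/-- The 2-subgroups are commutative when a Sylow 2-subgroup is. -/
theorem two_subgroup_comm (P : Sylow 2 G) (hP : IsMulCommutative P) {T : Subgroup G}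
    (hT : IsPGroup 2 T) {a b : G} (ha : a ∈ T) (hb : b ∈ T) : Commute a b := by
  have : Fact (Nat.Prime 2) := ⟨Nat.prime_two⟩
  obtain ⟨R, hR⟩ := hT.exists_le_sylow
  let f := R.equiv P
  have h : (⟨a, hR ha⟩ : R) * ⟨b, hR hb⟩ = ⟨b, hR hb⟩ * ⟨a, hR ha⟩ := by
    apply f.injective
    rw [map_mul, map_mul]
    exact hP.is_comm.comm _ _
  exact congrArg Subtype.val h

theorem pow_sq_eq_self {k : ℕ} (hk₁ : ∀ g : G, (∃ j : ℕ, orderOf g = 2 ^ j) → g ^ k = g)
    (hk₂ : ∀ g : G, Odd (orderOf g) → g ^ k = g⁻¹) (g : G) : (g ^ k) ^ k = g := by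
  obtain ⟨a, m, hm, hgm⟩ :=
    Nat.exists_eq_pow_mul_and_not_dvd (orderOf_pos g).ne' 2 (by norm_num)
  have hm' : Odd m := Nat.odd_iff.2 (Nat.two_dvd_ne_zero.1 hm)
  have h2 : orderOf (g ^ m) = 2 ^ a := by
    rw [orderOf_pow_of_dvd (by rintro rfl; exact hm (dvd_zero _)) (hgm ▸ dvd_mul_left m _), hgm,
      Nat.mul_div_cancel _ hm'.pos]
  have hodd : orderOf (g ^ 2 ^ a) = m := by
    rw [orderOf_pow_of_dvd (by positivity) (hgm ▸ dvd_mul_right _ m), hgm,
      Nat.mul_div_cancel_left _ (by positivity)]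
  have e1 : (g ^ m) ^ (k * k) = (g ^ m) ^ 1 := by
    rw [pow_one, pow_mul, hk₁ _ ⟨a, h2⟩, hk₁ _ ⟨a, h2⟩]
  have e2 : (g ^ 2 ^ a) ^ (k * k) = (g ^ 2 ^ a) ^ 1 := by
    rw [pow_one, pow_mul, hk₂ (g ^ 2 ^ a) (by rw [hodd]; exact hm'), inv_pow, hk₂ (g ^ 2 ^ a) (by rw [hodd]; exact hm'),
      inv_inv]
  rw [pow_eq_pow_iff_modEq, h2] at e1
  rw [pow_eq_pow_iff_modEq, hodd] at e2
  rw [← pow_mul]
  conv_rhs => rw [← pow_one g]
  rw [pow_eq_pow_iff_modEq, hgm]
  exact (Nat.modEq_and_modEq_iff_modEq_mul (Nat.Coprime.pow_left a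
    (Nat.coprime_two_left.2 hm'))).1 ⟨e1, e2⟩

theorem coprime_of_fixes {k : ℕ} (hk₁ : ∀ g : G, (∃ j : ℕ, orderOf g = 2 ^ j) → g ^ k = g)
    (hk₂ : ∀ g : G, Odd (orderOf g) → g ^ k = g⁻¹) : k.Coprime (Nat.card G) := by
  refine Nat.coprime_of_dvd fun r hr hrk hrG => ?_
  have : Fact r.Prime := ⟨hr⟩
  obtain ⟨x, hx⟩ := exists_prime_orderOf_dvd_card' r hrG
  have h1 : x ^ k = 1 := orderOf_dvd_iff_pow_eq_one.1 (hx ▸ hrk)
  have hne : x ≠ 1 := fun h => hr.ne_one (by rw [← hx, h, orderOf_one])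
  rcases hr.eq_two_or_odd' with rfl | hodd
  · exact hne ((hk₁ x ⟨1, by rw [hx]; rfl⟩).symm.trans h1)
  · exact hne (inv_eq_one.1 ((hk₂ x (hx ▸ hodd)).symm.trans h1))

theorem odd_pow_inverts {n y : G} (h : n * y * n⁻¹ = y⁻¹) {m : ℕ} (hm : Odd m) :
    n ^ m * y * (n ^ m)⁻¹ = y⁻¹ := by
  obtain ⟨j, rfl⟩ := hm
  have h2 : Commute (n ^ 2) y := by
    have : n ^ 2 * y * (n ^ 2)⁻¹ = y := by
      rw [sq, show n * n * y * (n * n)⁻¹ = n * (n * y * n⁻¹) * n⁻¹ by group, h,
        show n * y⁻¹ * n⁻¹ = (n * y * n⁻¹)⁻¹ by group, h, inv_inv]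
    exact mul_inv_eq_iff_eq_mul.1 this
  rw [pow_succ', pow_mul, mul_inv_rev,
    show n * (n ^ 2) ^ j * y * (((n ^ 2) ^ j)⁻¹ * n⁻¹) =
      n * ((n ^ 2) ^ j * y * ((n ^ 2) ^ j)⁻¹) * n⁻¹ by group,
    (h2.pow_left j).eq, mul_inv_cancel_right, h]

/-- A simple group with commutative Sylow 2-subgroups has a fixed character of even degree. -/
theorem exists_fixed_even [IsSimpleGroup G] (hnp : ¬ IsPGroup 2 G) {t : G} (ht : orderOf t = 2)
    (P : Sylow 2 G) (hP : IsMulCommutative P) {M : Ideal AlgInt} (hM : IsPModular 2 M) {k : ℕ}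
    (hk₁ : ∀ g : G, (∃ j : ℕ, orderOf g = 2 ^ j) → g ^ k = g)
    (hk₂ : ∀ g : G, Odd (orderOf g) → g ^ k = g⁻¹) :
    ∃ χ : IrrCharacter G, Even (charDegree (χ : G → ℂ)) ∧
      ∀ g : G, (χ : G → ℂ) (g ^ k) = (χ : G → ℂ) g := by
  classical
  have : Fact (Nat.Prime 2) := ⟨Nat.prime_two⟩
  have := Fintype.ofFinite G
  obtain ⟨u₀, y, hy1, hyodd, hu₀⟩ := exists_inverted_odd hnp ht
  -- a Sylow 2-subgroup of the centraliser
  set Cy := Subgroup.centralizer ({y} : Set G) with hCy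
  obtain ⟨Dy⟩ := (inferInstance : Nonempty (Sylow 2 Cy))
  set D : Subgroup G := (Dy : Subgroup Cy).map Cy.subtype with hDdef
  have hD : IsPGroup 2 D := Dy.2.map _
  have hDle : D ≤ Cy := Subgroup.map_subtype_le _
  set d := (Nat.card Cy).factorization 2 with hd
  have hDcard : Nat.card D = 2 ^ d := by
    rw [hDdef, Subgroup.card_subtype, Dy.card_eq_multiplicity]
  obtain ⟨o, hCycard, hoodd⟩ : ∃ o, Nat.card Cy = 2 ^ d * o ∧ Odd o :=
    ⟨Nat.card Cy / 2 ^ d, (Nat.ordProj_mul_ordCompl_eq_self _ 2).symm,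
      Nat.odd_iff.2 (Nat.two_dvd_ne_zero.1 (Nat.not_dvd_ordCompl Nat.prime_two Nat.card_pos.ne'))⟩
  have hDcomm : ∀ a ∈ D, ∀ b ∈ D, Commute a b := fun a ha b hb =>
    two_subgroup_comm P hP hD ha hb
  set C := Subgroup.centralizer (D : Set G) with hC
  have hDC : D ≤ C := fun a ha => Subgroup.mem_centralizer_iff.2 fun b hb => (hDcomm b hb a ha).eq
  have hmemC : ∀ {x : G}, x ∈ C → ∀ a ∈ D, Commute a x := fun hx a ha =>
    Subgroup.mem_centralizer_iff.1 hx a ha
  have hCnorm : C ≤ Subgroup.normalizer (D : Set G) := by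
    intro x hx
    rw [Subgroup.mem_normalizer_iff]
    intro a
    constructor
    · intro ha
      rwa [← (hmemC hx a ha).eq, mul_inv_cancel_right]
    · intro ha
      have h := (hmemC hx _ ha).eq
      have : x * a * x⁻¹ = a := by
        have h' : x * a = x * (x * a * x⁻¹) := by
          rw [← h]; group
        exact (mul_left_cancel h').symm
      rwa [this] at ha
  have hyC : y ∈ C := Subgroup.mem_centralizer_iff.2 fun a ha =>
    Subgroup.mem_centralizer_singleton_iff.1 (hDle ha)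
  -- maximality of `D`
  have hmax : ∀ c ∈ Cy, IsPElt 2 c → c ∈ C → c ∈ D := by
    intro c hcy ⟨j, hj⟩ hcC
    have hZ : IsPGroup 2 ↥(Subgroup.zpowers c) :=
      IsPGroup.of_card (n := j) (by rw [Nat.card_zpowers, hj])
    have hT : IsPGroup 2 ↥(Subgroup.zpowers c ⊔ D) :=
      IsPGroup.to_sup_of_normal_right' hZ hD (Subgroup.zpowers_le.2 (hCnorm hcC))
    obtain ⟨i, hi⟩ := IsPGroup.iff_card.1 hT
    have hdvd : 2 ^ i ∣ Nat.card Cy :=
      hi ▸ Subgroup.card_dvd_of_le (sup_le (Subgroup.zpowers_le.2 hcy) hDle)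
    have hid : i ≤ d := (Nat.prime_two.pow_dvd_iff_le_factorization Nat.card_pos.ne').1 hdvd
    have heq : D = Subgroup.zpowers c ⊔ D := Subgroup.eq_of_le_of_card_ge le_sup_right
      (by rw [hi, hDcard]; exact Nat.pow_le_pow_right (by norm_num) hid)
    rw [heq]
    exact Subgroup.mem_sup_left (Subgroup.mem_zpowers c)
  -- transitivity of the normaliser
  have htrans : ∀ a : G, IsConj y a → a ∈ C →
      ∃ n ∈ Subgroup.normalizer (D : Set G), n * y * n⁻¹ = a := by
    intro a hya haC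
    obtain ⟨g, rfl⟩ := isConj_iff.1 hya
    set D' := D.map (MulAut.conj g⁻¹).toMonoidHom with hD'
    have hD'le : D' ≤ Cy := by
      rintro _ ⟨x, hx, rfl⟩
      rw [hCy, Subgroup.mem_centralizer_singleton_iff]
      simp only [MulEquiv.coe_toMonoidHom, MulAut.conj_apply, inv_inv]
      rw [show g⁻¹ * x * g * y = g⁻¹ * (x * (g * y * g⁻¹)) * g by group, (hmemC haC x hx).eq]
      group
    have hcard : Nat.card (D'.subgroupOf Cy) = Nat.card Dy := by
      rw [Nat.card_congr (Subgroup.subgroupOfEquivOfLe hD'le).toEquiv, hD',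
        Subgroup.card_map_of_injective (f := (MulAut.conj g⁻¹).toMonoidHom) (MulAut.conj g⁻¹).injective,
        hDdef, Subgroup.card_subtype]
    obtain ⟨h, hh⟩ := CfsgLib.KnownA.Nil.exists_conj_of_card Dy hcard
    refine ⟨g * (h : G), ?_, ?_⟩
    · have hsub : D.map (MulAut.conj (g * (h : G))⁻¹).toMonoidHom ≤ D := by
        rintro _ ⟨x, hx, rfl⟩
        have hx' : (MulAut.conj g⁻¹).toMonoidHom x ∈ D' := ⟨x, hx, rfl⟩
        have := Subgroup.mem_map_of_mem Cy.subtype
          (hh ⟨_, hD'le hx'⟩ (Subgroup.mem_subgroupOf.2 hx'))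
        rw [← hDdef] at this
        convert this using 1
        simp [mul_assoc]
      have heq := Subgroup.eq_of_le_of_card_ge hsub
        (by rw [Subgroup.card_map_of_injective (f := (MulAut.conj (g * (h : G))⁻¹).toMonoidHom)
          (MulAut.conj _).injective])
      rw [← inv_mem_iff, Subgroup.mem_normalizer_iff]
      intro x
      conv_rhs => rw [← heq]
      simp only [Subgroup.mem_map, MulEquiv.coe_toMonoidHom, MulAut.conj_apply]
      refine ⟨fun hx => ⟨x, hx, rfl⟩, fun ⟨z, hz, hzx⟩ => ?_⟩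
      rw [← mul_left_cancel (mul_right_cancel hzx)]
      exact hz
    · have hhy : (h : G) * y = y * (h : G) := Subgroup.mem_centralizer_singleton_iff.1 h.2
      rw [show g * (h : G) * y * (g * (h : G))⁻¹ = g * ((h : G) * y * (h : G)⁻¹) * g⁻¹ by group,
        hhy, mul_inv_cancel_right]
  have hnormC : ∀ n ∈ Subgroup.normalizer (D : Set G), ∀ x ∈ C, n * x * n⁻¹ ∈ C := by
    intro n hn x hx
    refine Subgroup.mem_centralizer_iff.2 fun a ha => ?_
    have ha' : n⁻¹ * a * n ∈ D := by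
      have := (Subgroup.mem_normalizer_iff.1 (inv_mem hn) a).1 ha
      rwa [inv_inv] at this
    have h := (hmemC hx _ ha').eq
    calc a * (n * x * n⁻¹) = n * ((n⁻¹ * a * n) * x) * n⁻¹ := by group
      _ = n * (x * (n⁻¹ * a * n)) * n⁻¹ := by rw [h]
      _ = n * x * n⁻¹ * a := by group
  -- the central quotient
  let D₀ : Subgroup C := D.subgroupOf C
  have : D₀.Normal := ⟨fun a ha b => by
    rw [Subgroup.mem_subgroupOf] at ha ⊢
    simp only [Subgroup.coe_mul, Subgroup.coe_inv]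
    rwa [← (hmemC b.2 _ ha).eq, mul_inv_cancel_right]⟩
  have := Fintype.ofFinite (C ⧸ D₀)
  let π : C →* C ⧸ D₀ := QuotientGroup.mk' D₀
  have hπ : Function.Surjective π := QuotientGroup.mk'_surjective D₀
  have hπ1 : ∀ c : C, π c = 1 ↔ (c : G) ∈ D := fun c => by
    rw [show π c = (QuotientGroup.mk c : C ⧸ D₀) from rfl, QuotientGroup.eq_one_iff]
    exact Subgroup.mem_subgroupOf
  have hlift : ∀ x : C ⧸ D₀, IsPElt 2 x → ∃ c : C, π c = x ∧ IsPElt 2 (c : G) := by
    intro x ⟨j, hj⟩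
    obtain ⟨c, hc, i, hi⟩ := CfsgLib.KnownA.QdFree.exists_lift_pElt (p := 2) π hπ
      (z := x) ⟨j, by rw [← hj, pow_orderOf_eq_one]⟩
    exact ⟨c, hc, isPElt_two_of_pow (j := i) (congrArg Subtype.val hi)⟩
  have hinj : ∀ a b : C, IsConj y (a : G) → IsConj y (b : G) → π a = π b → a = b := by
    intro a b ha hb hab
    have hdD : ((a⁻¹ * b : C) : G) ∈ D := (hπ1 _).1 (by rw [map_mul, map_inv, hab, inv_mul_cancel])
    set z := ((a⁻¹ * b : C) : G) with hz
    have hbz : (b : G) = (a : G) * z := by simp [hz]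
    have hord : ∀ {w : G}, IsConj y w → orderOf w = orderOf y := fun hw => by
      obtain ⟨g, rfl⟩ := isConj_iff.1 hw
      exact MulEquiv.orderOf_eq (MulAut.conj g) y
    have hzn : z ^ orderOf y = 1 := by
      have h : ((a : G) * z) ^ orderOf y = 1 := by rw [← hbz, ← hord hb, pow_orderOf_eq_one]
      rwa [(hmemC a.2 z hdD).symm.mul_pow, ← hord ha, pow_orderOf_eq_one, one_mul, hord ha] at h
    obtain ⟨j, hj⟩ := isPElt_two_of_mem hD hdD
    have hzd : orderOf z ∣ orderOf y := orderOf_dvd_of_pow_eq_one hzn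
    have : z = 1 := by
      rw [← orderOf_eq_one_iff]
      exact Nat.eq_one_of_dvd_coprimes
        (Nat.Coprime.pow_left j (Nat.coprime_two_left.2 hyodd)) (hj ▸ dvd_refl _) hzd
    exact Subtype.ext (by rw [hbz, this, mul_one])
  have hconjC : ∀ (b : G) (a : G), IsConj y a → IsConj y (b * a * b⁻¹) := fun b a ha =>
    ha.trans (isConj_iff.2 ⟨b, rfl⟩)
  have hcentX : ∀ a : C, IsConj y (a : G) → ∀ s : C ⧸ D₀, IsPElt 2 s → Commute s (π a) → s = 1 := by
    intro a ha s hs hsa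
    obtain ⟨c, rfl, hc2⟩ := hlift s hs
    have hca : c * a * c⁻¹ = a := by
      refine hinj _ _ ?_ ha ?_
      · simpa using hconjC c a ha
      · rw [map_mul, map_mul, map_inv, hsa.eq, mul_inv_cancel_right]
    obtain ⟨n, hn, hna⟩ := htrans a ha a.2
    have hc' : n⁻¹ * (c : G) * n ∈ C := by
      have := hnormC n⁻¹ (inv_mem hn) c c.2
      rwa [inv_inv] at this
    have hc'y : n⁻¹ * (c : G) * n ∈ Cy := by
      rw [hCy, Subgroup.mem_centralizer_singleton_iff]
      have h : (c : G) * a = a * c := congrArg Subtype.val (mul_inv_eq_iff_eq_mul.1 hca)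
      calc n⁻¹ * (c : G) * n * y = n⁻¹ * ((c : G) * (n * y * n⁻¹)) * n := by group
        _ = n⁻¹ * ((n * y * n⁻¹) * (c : G)) * n := by rw [hna, h]
        _ = y * (n⁻¹ * (c : G) * n) := by group
    have hp : IsPElt 2 (n⁻¹ * (c : G) * n) := by
      have := (isPElt_conj (p := 2) (c : G) n⁻¹).2 hc2
      rwa [inv_inv] at this
    rw [hπ1]
    have := (Subgroup.mem_normalizer_iff.1 hn _).1 (hmax _ hc'y hp hc')
    rwa [show n * (n⁻¹ * (c : G) * n) * n⁻¹ = c by group] at this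
  -- the orders
  obtain ⟨e, m, hm2, hX⟩ :=
    Nat.exists_eq_pow_mul_and_not_dvd (Nat.card_pos (α := C ⧸ D₀)).ne' 2 (by norm_num)
  have hm : Odd m := Nat.odd_iff.2 (Nat.two_dvd_ne_zero.1 hm2)
  have hCcard : Nat.card C = 2 ^ e * m * 2 ^ d := by
    rw [Subgroup.card_eq_card_quotient_mul_card_subgroup D₀, hX,
      Nat.card_congr (Subgroup.subgroupOfEquivOfLe hDC).toEquiv, hDcard]
  have hCodd : Odd C.index := by
    obtain ⟨R, hR⟩ := hD.exists_le_sylow
    have hRC : (R : Subgroup G) ≤ C := fun x hx => Subgroup.mem_centralizer_iff.2 fun a ha =>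
      (two_subgroup_comm P hP R.2 (hR ha) hx).eq
    rw [← Nat.not_even_iff_odd, even_iff_two_dvd]
    exact fun h => R.not_dvd_index (h.trans (Subgroup.index_dvd_of_le hRC))
  have hGcard : Nat.card G = C.index * (2 ^ e * m * 2 ^ d) := by
    rw [← hCcard, Subgroup.index_mul_card]
  have hKdvd : 2 ^ e ∣ Cy.index := by
    have h := Cy.index_mul_card
    rw [hGcard, hCycard] at h
    have h' : Cy.index * o = 2 ^ e * (C.index * m) := by
      apply Nat.eq_of_mul_eq_mul_right (by positivity : 0 < 2 ^ d)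
      linear_combination h
    obtain ⟨u', -, hu'⟩ := exists_odd_cofactor hoodd (hCodd.mul hm) h'
    exact ⟨u', hu'⟩
  -- an involution of the quotient inverting the element
  have hyy : IsConj y y⁻¹ := isConj_iff.2 ⟨u₀, hu₀⟩
  obtain ⟨n₀, hn₀, hn₀y⟩ := htrans y⁻¹ hyy (inv_mem hyC)
  obtain ⟨a₂, m₂, hm₂, hom₂⟩ :=
    Nat.exists_eq_pow_mul_and_not_dvd (orderOf_pos n₀).ne' 2 (by norm_num)
  set v := n₀ ^ m₂ with hv
  have hvy : v * y * v⁻¹ = y⁻¹ :=
    odd_pow_inverts hn₀y (Nat.odd_iff.2 (Nat.two_dvd_ne_zero.1 hm₂))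
  have hv2 : IsPElt 2 v := isPElt_two_of_pow (j := a₂)
    (by rw [hv, ← pow_mul, mul_comm, ← hom₂, pow_orderOf_eq_one])
  have hvC : v ∈ C := by
    obtain ⟨j, hj⟩ := hv2
    have hZ : IsPGroup 2 ↥(Subgroup.zpowers v) :=
      IsPGroup.of_card (n := j) (by rw [Nat.card_zpowers, hj])
    have hT : IsPGroup 2 ↥(Subgroup.zpowers v ⊔ D) :=
      IsPGroup.to_sup_of_normal_right' hZ hD (Subgroup.zpowers_le.2 (pow_mem hn₀ _))
    exact Subgroup.mem_centralizer_iff.2 fun a ha => (two_subgroup_comm P hP hT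
      (Subgroup.mem_sup_right ha) (Subgroup.mem_sup_left (Subgroup.mem_zpowers v))).eq
  have hvnot : v ∉ Cy := by
    intro h
    rw [hCy, Subgroup.mem_centralizer_singleton_iff] at h
    rw [h, mul_inv_cancel_right] at hvy
    have h2 : y ^ 2 = 1 := by
      rw [sq]
      nth_rewrite 2 [hvy]
      exact mul_inv_cancel y
    exact hy1 (orderOf_eq_one_iff.1 (Nat.eq_one_of_dvd_coprimes
      (Nat.coprime_two_left.2 hyodd) (orderOf_dvd_of_pow_eq_one h2) dvd_rfl))
  set vX := π ⟨v, hvC⟩ with hvX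
  set yX := π ⟨y, hyC⟩ with hyX
  have hvv : vX * vX = 1 := by
    rw [hvX, ← map_mul, hπ1]
    refine hmax _ ?_ ?_ (C.mul_mem hvC hvC)
    · rw [hCy, Subgroup.mem_centralizer_singleton_iff]
      show v * v * y = y * (v * v)
      have : v * v * y * (v * v)⁻¹ = y := by
        rw [show v * v * y * (v * v)⁻¹ = v * (v * y * v⁻¹) * v⁻¹ by group, hvy,
          show v * y⁻¹ * v⁻¹ = (v * y * v⁻¹)⁻¹ by group, hvy, inv_inv]
      exact mul_inv_eq_iff_eq_mul.1 this
    · obtain ⟨j, hj⟩ := hv2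
      exact isPElt_two_of_pow (j := j) (by
        show (v * v) ^ 2 ^ j = 1
        rw [(Commute.refl v).mul_pow, ← hj, pow_orderOf_eq_one, one_mul])
  have hvX1 : vX ≠ 1 := fun h => hvnot (hDle ((hπ1 _).1 h))
  have he : 1 ≤ e := by
    rcases Nat.eq_zero_or_pos e with h0 | h0
    · rw [h0, pow_zero, one_mul] at hX
      have h2 : orderOf vX = 2 := orderOf_eq_prime (by rw [sq, hvv]) hvX1
      exact absurd (h2 ▸ hX ▸ orderOf_dvd_natCard vX) hm2
    · exact h0
  have hinvX : vX * yX * vX = yX⁻¹ := by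
    have hvi : vX⁻¹ = vX := inv_eq_of_mul_eq_one_right hvv
    rw [show vX * yX * vX = vX * yX * vX⁻¹ by rw [hvi], hvX, hyX, ← map_inv, ← map_mul,
      ← map_mul, ← map_inv]
    exact congrArg π (Subtype.ext hvy)
  have hyXodd : Odd (orderOf yX) := hyodd.of_dvd_nat
    ((orderOf_map_dvd π _).trans (by rw [Subgroup.orderOf_mk]))
  have habX : ∀ T : Subgroup (C ⧸ D₀), IsPGroup 2 T → IsMulCommutative T := by
    intro T hT
    have hker : IsPGroup 2 π.ker := by
      rw [QuotientGroup.ker_mk']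
      exact hD.comap_of_injective _ C.subtype_injective
    have hT' := (hT.comap_of_ker_isPGroup π hker).map C.subtype
    refine ⟨⟨fun a b => Subtype.ext ?_⟩⟩
    obtain ⟨a', ha'⟩ := hπ (a : C ⧸ D₀)
    obtain ⟨b', hb'⟩ := hπ (b : C ⧸ D₀)
    have h := two_subgroup_comm P hP hT'
      (Subgroup.mem_map_of_mem C.subtype (Subgroup.mem_comap.2 (ha'.symm ▸ a.2 : π a' ∈ T)))
      (Subgroup.mem_map_of_mem C.subtype (Subgroup.mem_comap.2 (hb'.symm ▸ b.2 : π b' ∈ T)))
    simp only [Subgroup.coe_mul]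
    rw [← ha', ← hb', ← map_mul, ← map_mul]
    exact congrArg π (Subtype.ext h.eq)
  have hq : Odd (pairCount yX) := odd_pairCount habX hyXodd hvv hinvX fun s hs hsy =>
    hcentX ⟨y, hyC⟩ (IsConj.refl y) s (isPElt_two_of_pow (j := 1) (by rw [pow_one, sq, hs])) hsy
  -- conjugation by the normaliser
  have hpc : ∀ a : C, IsConj y (a : G) → pairCount (π a) = pairCount yX := by
    intro a ha
    obtain ⟨n, hn, hna⟩ := htrans a ha a.2
    let φ : C ≃* C :=
      { toFun := fun c => ⟨n * c * n⁻¹, hnormC n hn c c.2⟩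
        invFun := fun c => ⟨n⁻¹ * c * n, by simpa using hnormC n⁻¹ (inv_mem hn) c c.2⟩
        left_inv := fun c => Subtype.ext (by simp [mul_assoc])
        right_inv := fun c => Subtype.ext (by simp [mul_assoc])
        map_mul' := fun b c => Subtype.ext (by simp [mul_assoc]) }
    have hφ : D₀.map φ.toMonoidHom = D₀ := by
      refine Subgroup.eq_of_le_of_card_ge ?_
        (by rw [Subgroup.card_map_of_injective φ.injective])
      rintro _ ⟨c, hc, rfl⟩
      exact Subgroup.mem_subgroupOf.2 ((Subgroup.mem_normalizer_iff.1 hn _).1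
        (Subgroup.mem_subgroupOf.1 hc))
    let α := QuotientGroup.congr D₀ D₀ φ hφ
    have hα : π a = α yX := by
      rw [hyX]
      exact congrArg π (Subtype.ext hna.symm : a = φ ⟨y, hyC⟩)
    rw [hα]
    refine (Finset.card_equiv α.toEquiv fun b => ?_).symm
    show b ∈ _ ↔ α b ∈ _
    refine Finset.mem_filter.trans (Iff.trans ?_ Finset.mem_filter.symm)
    simp only [Finset.mem_univ, true_and, IsPElt, ← map_inv, ← map_mul, MulEquiv.orderOf_eq]
  -- the classes in the quotient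
  have hcl : ∀ a : C, IsConj y (a : G) →
      2 ^ e ∣ (Subgroup.centralizer ({π a} : Set (C ⧸ D₀))).index := by
    intro a ha
    set Ca := Subgroup.centralizer ({π a} : Set (C ⧸ D₀)) with hCa
    have hodd : Odd (Nat.card Ca) := by
      rw [← Nat.not_even_iff_odd, even_iff_two_dvd]
      intro h
      obtain ⟨s, hs⟩ := exists_prime_orderOf_dvd_card' 2 h
      have h1 := hcentX a ha (s : C ⧸ D₀) ⟨1, by rw [Subgroup.orderOf_coe, hs]; rfl⟩
        (Subgroup.mem_centralizer_singleton_iff.1 s.2)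
      rw [show s = 1 from Subtype.ext h1, orderOf_one] at hs
      omega
    obtain ⟨u', -, hu'⟩ := exists_odd_cofactor hodd hm
      ((Subgroup.index_mul_card Ca).trans hX)
    exact ⟨u', hu'⟩
  -- the number of conjugates in `C`
  obtain ⟨u, hu, hcard⟩ : ∃ u, Odd u ∧ Nat.card {a : C // IsConj y (a : G)} = 2 ^ e * u := by
    set N := Subgroup.normalizer (D : Set G) with hN
    letI : MulAction N G := MulAction.compHom G ((MulAut.conj (G := G)).comp N.subtype)
    have hsmul : ∀ (n : N) (a : G), n • a = (n : G) * a * (n : G)⁻¹ := fun _ _ => rfl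
    have horb : Nat.card {a : C // IsConj y (a : G)} = Nat.card (MulAction.orbit N y) := by
      refine Nat.card_congr
        { toFun := fun a => ⟨(a.1 : G), ?_⟩
          invFun := fun a => ⟨⟨a.1, ?_⟩, ?_⟩
          left_inv := fun a => rfl
          right_inv := fun a => rfl }
      · obtain ⟨n, hn, hna⟩ := htrans _ a.2 a.1.2
        exact ⟨⟨n, hn⟩, hna⟩
      · obtain ⟨n, hn⟩ := a.2
        rw [← hn]
        exact hnormC n n.2 y hyC
      · obtain ⟨n, hn⟩ := a.2
        show IsConj y a.1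
        rw [← hn]
        exact isConj_iff.2 ⟨n, rfl⟩
    have hstab : MulAction.stabilizer N y = Cy.subgroupOf N := by
      ext n
      rw [MulAction.mem_stabilizer_iff, Subgroup.mem_subgroupOf, hCy,
        Subgroup.mem_centralizer_singleton_iff, hsmul, mul_inv_eq_iff_eq_mul]
    have hos := MulAction.card_orbit_mul_card_stabilizer_eq_card_group N y
    rw [← Nat.card_eq_fintype_card, ← Nat.card_eq_fintype_card, ← Nat.card_eq_fintype_card] at hos
    rw [← horb, hstab] at hos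
    -- the stabiliser
    have hSd : Nat.card (Cy.subgroupOf N) = Nat.card (Cy ⊓ N : Subgroup G) := by
      rw [← Subgroup.inf_subgroupOf_right,
        Nat.card_congr (Subgroup.subgroupOfEquivOfLe inf_le_right).toEquiv]
    obtain ⟨s, hs⟩ : 2 ^ d ∣ Nat.card (Cy ⊓ N : Subgroup G) :=
      hDcard ▸ Subgroup.card_dvd_of_le (le_inf hDle (hDC.trans hCnorm))
    have hsodd : Odd s := by
      have h := Subgroup.card_dvd_of_le (inf_le_left : Cy ⊓ N ≤ Cy)
      rw [hs, hCycard] at h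
      exact hoodd.of_dvd_nat (Nat.dvd_of_mul_dvd_mul_left (by positivity) h)
    have hNodd : Odd N.index := hCodd.of_dvd_nat (Subgroup.index_dvd_of_le hCnorm)
    have hN' := N.index_mul_card
    rw [hGcard, ← hos, hSd, hs] at hN'
    have h' : Nat.card {a : C // IsConj y (a : G)} * (N.index * s) = 2 ^ e * (C.index * m) := by
      apply Nat.eq_of_mul_eq_mul_right (by positivity : 0 < 2 ^ d)
      linear_combination hN'
    exact exists_odd_cofactor (hNodd.mul hsodd) (hCodd.mul hm) h'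
  exact exists_fixed_even_of_local hM (coprime_of_fixes hk₁ hk₂) (pow_sq_eq_self hk₁ hk₂) hD hC
    hCodd π hπ (fun x hx => by
      obtain ⟨c, rfl, hc⟩ := hlift x hx
      rw [← map_pow]
      exact congrArg π (Subtype.ext (hk₁ _ hc)))
    (hk₂ y hyodd) hyy he hX hm hKdvd hinj hcl hu hcard hq hpc

end CfsgLib.SigmaFixed
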