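import Cfsg.Agent.Lib.BlockB.DefectCount
import Cfsg.Agent.Lib.Invol.BaerSuzuki
import Mathlib.Tactic

/-!
Sums over orbits of an involution, and the parity of the number of factorisations of an inverted
element of odd order as a product of two 2-elements.
-/

set_option autoImplicit false
set_option linter.unusedSectionVars false

namespace CfsgLib.SigmaFixed

open CfsgLib.BlockB (IsPElt isPElt_conj)

/-- A sum of an invariant function over a set stable under an involution. -/
theorem sum_involution_split {α : Type*} [Finite α] [DecidableEq α] {M : Type*} [AddCommMonoid M]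
    (s : Finset α) (g : α → α) (hmem : ∀ x ∈ s, g x ∈ s) (hinv : ∀ x ∈ s, g (g x) = x)
    (f : α → M) (hf : ∀ x ∈ s, f (g x) = f x) :
    ∃ t ⊆ s, ∑ x ∈ s, f x = ∑ x ∈ s.filter (fun x => g x = x), f x + 2 • ∑ x ∈ t, f x := by
  classical
  have := Fintype.ofFinite α
  let e : α ↪ ℕ := (Fintype.equivFin α).toEmbedding.trans Fin.valEmbedding
  set t := s.filter (fun x => e x < e (g x)) with ht
  refine ⟨t, Finset.filter_subset _ _, ?_⟩
  rw [← Finset.sum_filter_add_sum_filter_not s (fun x => g x = x) f]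
  congr 1
  rw [two_nsmul, ← Finset.sum_filter_add_sum_filter_not (s.filter fun x => ¬ g x = x)
    (fun x => e x < e (g x)) f]
  congr 1
  · refine Finset.sum_congr ?_ fun _ _ => rfl
    ext x
    simp only [ht, Finset.mem_filter]
    refine ⟨fun h => ⟨h.1.1, h.2⟩, fun h => ⟨⟨h.1, fun he => ?_⟩, h.2⟩⟩
    have := h.2
    rw [he] at this
    omega
  · refine Finset.sum_nbij' g g ?_ ?_ ?_ ?_ ?_
    · intro x hx
      simp only [ht, Finset.mem_filter] at hx ⊢
      refine ⟨hmem x hx.1.1, ?_⟩
      rw [hinv x hx.1.1]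
      have hne : e (g x) ≠ e x := fun h => hx.1.2 (e.injective h)
      omega
    · intro x hx
      simp only [ht, Finset.mem_filter] at hx ⊢
      rw [hinv x hx.1]
      refine ⟨⟨hmem x hx.1, fun he => ?_⟩, by omega⟩
      have := hx.2
      rw [← he] at this
      omega
    · intro x hx; exact hinv x (Finset.mem_filter.1 (Finset.mem_filter.1 hx).1).1
    · intro x hx; exact hinv x (Finset.mem_filter.1 hx).1
    · intro x hx; exact (hf x (Finset.mem_filter.1 (Finset.mem_filter.1 hx).1).1).symm

/-- An involution on a finite set has as many fixed points as the set has elements, modulo two. -/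
theorem card_mod_two_fixed {α : Type*} [Finite α] [DecidableEq α] (s : Finset α) (g : α → α)
    (hmem : ∀ x ∈ s, g x ∈ s) (hinv : ∀ x ∈ s, g (g x) = x) :
    s.card % 2 = (s.filter fun x => g x = x).card % 2 := by
  obtain ⟨t, -, h⟩ := sum_involution_split s g hmem hinv (fun _ => (1 : ℕ)) (fun _ _ => rfl)
  simp only [Finset.sum_const, smul_eq_mul, mul_one] at h
  omega

variable {G : Type*} [Group G] [Finite G]

/-- Two elements of order at most two with a product of 2-power order generate a 2-group. -/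
theorem isPGroup_closure_pair {t s : G} (ht : t * t = 1) (hs : s * s = 1)
    (hd : IsPElt 2 (t * s)) : IsPGroup 2 ↥(Subgroup.closure ({t, s} : Set G)) := by
  have : Fact (Nat.Prime 2) := ⟨Nat.prime_two⟩
  obtain ⟨k, hk⟩ := hd
  have hZ : IsPGroup 2 ↥(Subgroup.zpowers (t * s)) :=
    IsPGroup.of_card (n := k) (by rw [Nat.card_zpowers, hk])
  have hT : IsPGroup 2 ↥(Subgroup.zpowers t) := by
    obtain ⟨j, -, hj⟩ := (Nat.dvd_prime_pow Nat.prime_two).1
      (orderOf_dvd_of_pow_eq_one (show t ^ (2 ^ 1) = 1 by rw [pow_one, sq, ht]))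
    exact IsPGroup.of_card (n := j) (by rw [Nat.card_zpowers, hj])
  have hnorm : Subgroup.zpowers t ≤ Subgroup.normalizer (Subgroup.zpowers (t * s) : Set G) := by
    rw [Subgroup.zpowers_le, Subgroup.mem_normalizer_iff]
    have hti : t⁻¹ = t := inv_eq_of_mul_eq_one_right ht
    have hsi : s⁻¹ = s := inv_eq_of_mul_eq_one_right hs
    have hc : t * (t * s) * t⁻¹ = (t * s)⁻¹ := by
      rw [mul_inv_rev, hti, hsi, ← mul_assoc t t s, ht, one_mul]
    have fwd : ∀ h, h ∈ Subgroup.zpowers (t * s) → t * h * t⁻¹ ∈ Subgroup.zpowers (t * s) := by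
      rintro _ ⟨i, rfl⟩
      simp only [← conj_zpow, hc]
      exact zpow_mem (Subgroup.inv_mem _ (Subgroup.mem_zpowers _)) i
    intro h
    refine ⟨fwd h, fun hh => ?_⟩
    have := fwd _ hh
    rwa [show t * (t * h * t⁻¹) * t⁻¹ = t * t * h * (t * t)⁻¹ by group, ht, one_mul, inv_one,
      mul_one] at this
  refine (IsPGroup.to_sup_of_normal_left' hZ hT hnorm).to_le ?_
  rw [Subgroup.closure_le]
  have h1 : t ∈ Subgroup.zpowers (t * s) ⊔ Subgroup.zpowers t :=
    Subgroup.mem_sup_right (Subgroup.mem_zpowers t)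
  rintro x (rfl | rfl)
  · exact h1
  · have h2 := Subgroup.mul_mem _ h1
      (Subgroup.mem_sup_left (T := Subgroup.zpowers t) (Subgroup.mem_zpowers (t * x)))
    rwa [← mul_assoc, ht, one_mul] at h2

/-- A group that is not a 2-group by itself and has no normal 2-subgroup has an involution
inverting a non-trivial element of odd order. -/
theorem exists_inverted_odd [IsSimpleGroup G] (hnp : ¬ IsPGroup 2 G) {t : G} (ht : orderOf t = 2) :
    ∃ u y : G, y ≠ 1 ∧ Odd (orderOf y) ∧ u * y * u⁻¹ = y⁻¹ := by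
  have : Fact (Nat.Prime 2) := ⟨Nat.prime_two⟩
  have htt : t * t = 1 := by rw [← sq, ← ht, pow_orderOf_eq_one]
  by_contra hcon
  push Not at hcon
  have key : ∀ g : G, IsPGroup 2
      ↥(Subgroup.zpowers t ⊔ (Subgroup.zpowers t).map (MulAut.conj g).toMonoidHom) := by
    intro g
    have e : Subgroup.zpowers t ⊔ (Subgroup.zpowers t).map (MulAut.conj g).toMonoidHom =
        Subgroup.closure ({t, g * t * g⁻¹} : Set G) := by
      rw [MonoidHom.map_zpowers, Subgroup.zpowers_eq_closure, Subgroup.zpowers_eq_closure,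
        ← Subgroup.closure_union, Set.singleton_union]
      simp
    rw [e]
    set s := g * t * g⁻¹ with hs
    have hss : s * s = 1 := by
      rw [hs, show g * t * g⁻¹ * (g * t * g⁻¹) = g * (t * t) * g⁻¹ by group, htt]
      group
    refine isPGroup_closure_pair htt hss ?_
    set d := t * s with hd
    obtain ⟨a, m, hm, hdm⟩ :=
      Nat.exists_eq_pow_mul_and_not_dvd (orderOf_pos d).ne' 2 (by norm_num)
    refine ⟨a, ?_⟩
    suffices m = 1 by rw [hdm, this, mul_one]
    have hy : orderOf (d ^ 2 ^ a) = m := by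
      rw [orderOf_pow' _ (by positivity), hdm, Nat.gcd_eq_right (dvd_mul_right _ _),
        Nat.mul_div_cancel_left _ (by positivity)]
    by_contra hm1
    refine hcon t (d ^ 2 ^ a) (fun h => hm1 ?_) ?_ ?_
    · rw [← hy, h, orderOf_one]
    · rw [hy]; exact Nat.odd_iff.2 (Nat.two_dvd_ne_zero.1 hm)
    · rw [← conj_pow, ← inv_pow]
      congr 1
      rw [hd, mul_inv_rev, inv_eq_of_mul_eq_one_right hss, inv_eq_of_mul_eq_one_right htt,
        ← mul_assoc t t s, htt, one_mul]
  obtain ⟨N, hN, hNp, hle⟩ := CfsgLib.Invol.baer_suzuki (p := 2) (Subgroup.zpowers t) key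
  rcases hN.eq_bot_or_eq_top with h | h
  · rw [h, Subgroup.zpowers_le, Subgroup.mem_bot] at hle
    rw [hle, orderOf_one] at ht
    omega
  · rw [h] at hNp
    exact hnp (hNp.of_equiv Subgroup.topEquiv)

open scoped Classical in
/-- The number of factorisations as a product of two 2-elements. -/
noncomputable def pairCount [Fintype G] (z : G) : ℕ :=
  (Finset.univ.filter fun a : G => IsPElt 2 a ∧ IsPElt 2 (a⁻¹ * z)).card

theorem isPElt_inv {a : G} : IsPElt 2 a⁻¹ ↔ IsPElt 2 a := by simp [IsPElt]

/-- An inverted element of odd order centralised by no involution is a product of two 2-elements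
in an odd number of ways, when the 2-subgroups are commutative. -/
theorem odd_pairCount [Fintype G]
    (hab : ∀ T : Subgroup G, IsPGroup 2 T → IsMulCommutative T)
    {y w : G} (hy : Odd (orderOf y)) (hw : w * w = 1) (hinv : w * y * w = y⁻¹)
    (hcent : ∀ s : G, s * s = 1 → Commute s y → s = 1) : Odd (pairCount y) := by
  classical
  have : Fact (Nat.Prime 2) := ⟨Nat.prime_two⟩
  have hwi : w⁻¹ = w := inv_eq_of_mul_eq_one_right hw
  have hww : ∀ x : G, w * (w * x) = x := fun x => by rw [← mul_assoc, hw, one_mul]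
  have hwy : w * y⁻¹ = y * w := by rw [← hinv, ← mul_assoc, ← mul_assoc, hw, one_mul]
  have hconjw : ∀ x : G, IsPElt 2 (w * x * w) ↔ IsPElt 2 x := by
    intro x
    conv_lhs => rw [show w * x * w = w * x * w⁻¹ by rw [hwi]]
    exact isPElt_conj x w
  obtain ⟨j₀, hj₀⟩ := hy
  set j := j₀ + 1 with hj
  have hyj : y ^ j * y ^ j = y := by
    rw [← pow_add, show j + j = (2 * j₀ + 1) + 1 by omega, pow_succ, ← hj₀, pow_orderOf_eq_one,
      one_mul]
  set m := y ^ j * w with hm
  have hwj : w * y ^ j * w = (y ^ j)⁻¹ := by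
    rw [show w * y ^ j * w = w * y ^ j * w⁻¹ by rw [hwi], ← conj_pow, hwi, hinv, inv_pow]
  have hmm : m * m = 1 := by
    rw [hm, show y ^ j * w * (y ^ j * w) = y ^ j * (w * y ^ j * w) by group, hwj]
    group
  have hmi : m⁻¹ = m := inv_eq_of_mul_eq_one_right hmm
  have hmwm : m * w * m = y * w := by
    rw [hm, show y ^ j * w * w * (y ^ j * w) = y ^ j * (w * w) * y ^ j * w by group, hw, mul_one,
      hyj]
  have hmvm : m * (y * w) * m = w := by
    rw [← hmwm, show m * (m * w * m) * m = (m * m) * w * (m * m) by group, hmm, one_mul, mul_one]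
  clear_value m
  set T := Finset.univ.filter fun a : G => IsPElt 2 a ∧ IsPElt 2 (a⁻¹ * y) with hT
  let τ : G → G := fun a => w * y⁻¹ * a * w
  have hτ : ∀ a, τ (τ a) = a := fun a => by
    show w * y⁻¹ * (w * y⁻¹ * a * w) * w = a
    rw [show w * y⁻¹ * (w * y⁻¹ * a * w) * w = (w * y⁻¹) * (w * y⁻¹) * a * (w * w) by group,
      hw, mul_one]
    nth_rewrite 1 [hwy]
    rw [show y * w * (w * y⁻¹) = y * (w * w) * y⁻¹ by group, hw, mul_one, mul_inv_cancel,
      one_mul]
  have hpartner : ∀ a, (τ a)⁻¹ * y = w * a⁻¹ * w := fun a => by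
    show (w * y⁻¹ * a * w)⁻¹ * y = w * a⁻¹ * w
    rw [mul_inv_rev, mul_inv_rev, mul_inv_rev, inv_inv, hwi]
    rw [show w * (a⁻¹ * (y * w)) * y = w * a⁻¹ * (y * (w * y)) by group]
    congr 1
    have : w * y = y⁻¹ * w := by rw [← hinv, mul_assoc, hw, mul_one]
    rw [this, mul_inv_cancel_left]
  have hτmem : ∀ a ∈ T, τ a ∈ T := by
    intro a ha
    simp only [hT, Finset.mem_filter, Finset.mem_univ, true_and] at ha ⊢
    refine ⟨?_, ?_⟩
    · have : τ a = w * (a⁻¹ * y)⁻¹ * w := by
        show w * y⁻¹ * a * w = _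
        group
      rw [this, hconjw, isPElt_inv]
      exact ha.2
    · rw [hpartner, hconjw, isPElt_inv]
      exact ha.1
  have h1 : pairCount y % 2 = (T.filter fun a => τ a = a).card % 2 :=
    card_mod_two_fixed T τ hτmem fun a _ => hτ a
  set F := Finset.univ.filter fun a : G => IsPElt 2 a ∧ a * w * a⁻¹ = y * w with hF
  have hTF : (T.filter fun a => τ a = a) = F := by
    ext a
    simp only [hT, hF, Finset.mem_filter, Finset.mem_univ, true_and]
    have hiff : τ a = a ↔ a * w * a⁻¹ = y * w := by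
      show w * y⁻¹ * a * w = a ↔ _
      rw [hwy, mul_inv_eq_iff_eq_mul]
      constructor
      · intro h
        conv_lhs => rw [← h]
        rw [mul_assoc (y * w * a) w w, hw, mul_one]
      · intro h
        rw [← h, mul_assoc a w w, hw, mul_one]
    refine ⟨fun h => ⟨h.1.1, hiff.1 h.2⟩, fun h => ⟨⟨h.1, ?_⟩, hiff.2 h.2⟩⟩
    have := hpartner a
    rw [hiff.2 h.2] at this
    rw [this, hconjw, isPElt_inv]
    exact h.1
  let κ : G → G := fun a => m * a⁻¹ * m
  have hκ : ∀ a, κ (κ a) = a := fun a => by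
    show m * (m * a⁻¹ * m)⁻¹ * m = a
    rw [mul_inv_rev, mul_inv_rev, inv_inv, hmi,
      show m * (m * (a * m)) * m = (m * m) * a * (m * m) by group, hmm, one_mul, mul_one]
  have hκmem : ∀ a ∈ F, κ a ∈ F := by
    intro a ha
    simp only [hF, Finset.mem_filter, Finset.mem_univ, true_and] at ha ⊢
    refine ⟨?_, ?_⟩
    · show IsPElt 2 (m * a⁻¹ * m)
      conv => arg 2; rw [show m * a⁻¹ * m = m * a⁻¹ * m⁻¹ by rw [hmi]]
      rw [isPElt_conj, isPElt_inv]
      exact ha.1
    · show m * a⁻¹ * m * w * (m * a⁻¹ * m)⁻¹ = y * w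
      rw [mul_inv_rev, mul_inv_rev, inv_inv, hmi,
        show m * a⁻¹ * m * w * (m * (a * m)) = m * (a⁻¹ * (m * w * m) * a) * m by group, hmwm,
        ← ha.2,
        show a⁻¹ * (a * w * a⁻¹) * a = w by group, hmwm, ← ha.2]
  have h2 : F.card % 2 = (F.filter fun a => κ a = a).card % 2 :=
    card_mod_two_fixed F κ hκmem fun a _ => hκ a
  have hfix : (F.filter fun a => κ a = a) = {m} := by
    ext a
    simp only [hF, Finset.mem_filter, Finset.mem_univ, true_and, Finset.mem_singleton]
    constructor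
    · rintro ⟨⟨ha, haw⟩, hka⟩
      set s := m * a with hs
      have hss : s * s = 1 := by
        have hka' : m * a⁻¹ * m = a := hka
        rw [hs]
        nth_rewrite 1 [← hka']
        rw [show m * (m * a⁻¹ * m) * (m * a) = (m * m) * a⁻¹ * (m * m) * a by group, hmm, one_mul,
          mul_one, inv_mul_cancel]
      have has : a = m * s := by rw [hs, ← mul_assoc, hmm, one_mul]
      have hsw : s * w = w * s := by
        have h3 : s * w * s⁻¹ = w := by
          rw [hs, show m * a * w * (m * a)⁻¹ = m * (a * w * a⁻¹) * m⁻¹ by group, haw, hmi, hmvm]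
        exact mul_inv_eq_iff_eq_mul.1 h3
      have h2g := hab _ (isPGroup_closure_pair hmm hss (has ▸ ha))
      have hms : m * s = s * m := by
        have := h2g.is_comm.comm
          (⟨m, Subgroup.subset_closure (Or.inl rfl)⟩ : Subgroup.closure ({m, s} : Set G))
          ⟨s, Subgroup.subset_closure (Or.inr rfl)⟩
        exact congrArg Subtype.val this
      have hcy : Commute s y := by
        have h4 : Commute s (m * w) := Commute.mul_right hms.symm hsw
        rw [hm, mul_assoc, hw, mul_one] at h4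
        have h5 := h4.mul_right h4
        rwa [hyj] at h5
      rw [has, hcent s hss hcy, mul_one]
    · intro ham
      rw [ham]
      refine ⟨⟨⟨if m = 1 then 0 else 1, ?_⟩, ?_⟩, ?_⟩
      · split_ifs with h
        · simp [h]
        · rw [pow_one]
          exact orderOf_eq_prime (by rw [sq, hmm]) h
      · rw [hmi, hmwm]
      · show m * m⁻¹ * m = m
        group
  rw [Nat.odd_iff, h1, hTF, h2, hfix, Finset.card_singleton]

end CfsgLib.SigmaFixed
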