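import Cfsg.Agent.Lib.SigmaFixed.Pairs
import Cfsg.Agent.Lib.BlockB.PEltInd
import Cfsg.Agent.Lib.Block.Omega

/-!
The characters of a group against the sum of its 2-elements: the sum of the fourth powers of the
normalised scalars over the characters of full 2-part is a unit at the prime two.
-/

set_option autoImplicit false
set_option linter.unusedSectionVars false

namespace CfsgLib.SigmaFixed

open Cfsg CfsgLib.Block
open CfsgLib.BlockB (pEltInd pEltInd_isClassFunction IsPElt)
open scoped ComplexConjugate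

variable {X : Type*} [Group X] [Fintype X]

/-- A central element from the values of the central characters. -/
theorem sum_irr_omegaC [Fintype (IrrCharacter X)] {a : MonoidAlgebra ℂ X} (ha : IsClassCoeff a)
    (g : X) :
    ∑ χ : IrrCharacter X, (χ : X → ℂ) g⁻¹ * (χ : X → ℂ) 1 * omegaC (χ : X → ℂ) a =
      (Nat.card X : ℂ) * a.coeff g := by
  have hcard : (Nat.card X : ℂ) ≠ 0 := CfsgLib.Char.natCard_ne_zero
  conv_rhs => rw [eq_sum_idemC ha]
  simp only [MonoidAlgebra.coeff_sum, MonoidAlgebra.coeff_smul, Finset.sum_apply',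
    Finsupp.smul_apply, smul_eq_mul, Finset.mul_sum]
  refine Finset.sum_congr rfl fun χ _ => ?_
  simp only [idemC, coeff_mkGA, irr_conj_eq χ.2]
  field_simp

theorem mkGA_isClassCoeff {f : X → ℂ} (hf : IsClassFunction X f) : IsClassCoeff (mkGA f) := by
  intro g h
  simp only [coeff_mkGA]
  exact hf g h

theorem omegaC_mkGA (χ f : X → ℂ) : omegaC χ (mkGA f) = (∑ x, f x * χ x) / χ 1 := by
  rw [omegaC_eq]
  simp

/-- The normalised sum of a function over the 2-elements. -/
noncomputable def twoScalar (e : ℕ) (θ : X → ℂ) : ℂ :=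
  (∑ x, pEltInd 2 x * θ x) / (2 ^ e : ℕ)

/-- The normalised scalar is invariant under a power map fixing the 2-elements. -/
theorem twoScalar_comp_pow {k : ℕ} (hk : ∀ x : X, IsPElt 2 x → x ^ k = x) (e : ℕ) (θ : X → ℂ) :
    twoScalar e (fun g => θ (g ^ k)) = twoScalar e θ := by
  classical
  unfold twoScalar
  congr 1
  refine Finset.sum_congr rfl fun x _ => ?_
  unfold pEltInd
  split_ifs with h
  · simp only [hk x h]
  · simp

variable {M : Ideal AlgInt}

theorem twoScalar_memLocalRing (hM : IsPModular 2 M) {e m : ℕ} (hX : Nat.card X = 2 ^ e * m)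
    {θ : X → ℂ} (hθ : IsCharacter X θ) : MemLocalRing M (twoScalar e θ) := by
  have := isPrime_of_pmodular hM
  obtain ⟨N, hN, hgen⟩ := CfsgLib.BlockB.exists_isGeneralized_pEltInd (G := X) Nat.prime_two
  obtain ⟨j, hj⟩ := CfsgLib.Char.classInner_isGeneralized_int hgen
    (CfsgLib.Char.isGeneralized_of_isCharacter (CfsgLib.Char.isCharacter_conj hθ))
  have hN0 : (N : ℂ) ≠ 0 := by
    exact_mod_cast (fun h : N = 0 => hN (h ▸ dvd_zero _))
  have hcard : (Nat.card X : ℂ) ≠ 0 := CfsgLib.Char.natCard_ne_zero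
  have h2 : ((2 ^ e : ℕ) : ℂ) ≠ 0 := by exact_mod_cast (by positivity : 2 ^ e ≠ 0)
  simp only [CfsgLib.Char.classInner_def, Complex.conj_conj, mul_assoc, ← Finset.mul_sum] at hj
  have hval : twoScalar e θ = (m : ℂ) * ((j : ℂ) * (N : ℂ)⁻¹) := by
    unfold twoScalar
    rw [← hj, hX]
    have hm : (m : ℂ) ≠ 0 := by
      intro h
      rw [hX, Nat.cast_mul, h, mul_zero] at hcard
      exact hcard rfl
    push_cast
    field_simp
  rw [hval]
  exact memLocalRing_mul (memLocalRing_natCast m)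
    (memLocalRing_mul (memLocalRing_intCast j) (memLocalRing_inv_natCast hM hN))

theorem omega_indicator_mem (hM : IsPModular 2 M) {e : ℕ} (K : X → Prop) [DecidablePred K]
    (hKc : ∀ g h : X, K (h * g * h⁻¹) ↔ K g)
    (hcl : ∀ z, K z → 2 ^ e ∣ (Subgroup.centralizer ({z} : Set X)).index)
    (θ : IrrCharacter X) (hfull : ¬ 2 ^ e ∣ charDegree (θ : X → ℂ)) :
    MemLocalIdeal M (omegaC (θ : X → ℂ) (mkGA fun z => if K z then 1 else 0)) := by
  classical
  have := isPrime_of_pmodular hM
  have : Finite (ConjClasses X) := Finite.of_surjective ConjClasses.mk ConjClasses.mk_surjective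
  have := Fintype.ofFinite (ConjClasses X)
  have hcf : IsClassFunction X (fun z => if K z then (1 : ℂ) else 0) := by
    intro g h; simp only [hKc]
  rw [omegaC_eq_sum_classes (CfsgLib.Char.irr_isClassFunction θ.2) (mkGA_isClassCoeff hcf)]
  refine memLocalIdeal_sum _ _ fun C _ => ?_
  rw [coeff_mkGA]
  split_ifs with hK
  · rw [one_mul, centralChar]
    obtain ⟨l, hl⟩ := hcl _ hK
    set d := charDegree (θ : X → ℂ) with hd
    have hd1 : (θ : X → ℂ) 1 = d := (CfsgLib.BlockB.irr_degree_cast θ).symm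
    obtain ⟨v, o, ho, hvo⟩ := Nat.exists_eq_pow_mul_and_not_dvd
      (show d ≠ 0 from fun h => hfull (h ▸ dvd_zero _)) 2 (by norm_num)
    have hve : v < e := by
      by_contra hc
      exact hfull (hvo ▸ dvd_mul_of_dvd_left (pow_dvd_pow 2 (not_lt.1 hc)) o)
    have hsplit : (2 : ℕ) ^ e = 2 ^ v * (2 * 2 ^ (e - v - 1)) := by
      rw [← pow_succ', ← pow_add]; congr 1; omega
    rw [hl, hd1, hvo, hsplit]
    have hv0 : ((2 : ℂ) ^ v) ≠ 0 := pow_ne_zero _ two_ne_zero
    have ho0 : (o : ℂ) ≠ 0 := by exact_mod_cast (fun h : o = 0 => ho (h ▸ dvd_zero _))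
    have : ((2 ^ v * (2 * 2 ^ (e - v - 1)) * l : ℕ) : ℂ) * (θ : X → ℂ) C.out /
        ((2 ^ v * o : ℕ) : ℂ) =
        (2 : ℕ) * (((2 ^ (e - v - 1) * l : ℕ) : ℂ) * ((θ : X → ℂ) C.out * (o : ℂ)⁻¹)) := by
      push_cast
      field_simp
    rw [this]
    exact memLocalIdeal_mul_right (memLocalRing_mul (memLocalRing_natCast _)
      (memLocalRing_mul (memLocalRing_of_isIntegral
        (irr_apply_isIntegral (CfsgLib.Char.irr_isCharacter θ.2) _))
        (memLocalRing_inv_natCast hM ho))) ((memLocalIdeal_natCast_iff hM 2).2 dvd_rfl)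
  · rw [zero_mul]
    exact memLocalIdeal_zero

theorem omega_indicator_ring [M.IsPrime] (K : X → Prop) [DecidablePred K]
    (hKc : ∀ g h : X, K (h * g * h⁻¹) ↔ K g) (θ : IrrCharacter X) :
    MemLocalRing M (omegaC (θ : X → ℂ) (mkGA fun z => if K z then 1 else 0)) := by
  classical
  refine memLocalRing_omegaC θ.2 ⟨mkGA_isClassCoeff (fun g h => by simp only [hKc]), fun g => ?_⟩
  rw [coeff_mkGA]
  split
  · exact (lring M).one_mem
  · exact (lring M).zero_mem

/-- For an inverse closed union `K` of classes of 2-part `2 ^ e` on which the number of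
factorisations into 2-elements is constant and odd, the sum over the characters of full 2-part of
the fourth power of the scalar times the squared central character at `K` is a unit. -/
theorem not_memLocalIdeal_full_sum [Fintype (IrrCharacter X)] (hM : IsPModular 2 M) {e m : ℕ}
    (hX : Nat.card X = 2 ^ e * m) (hm : Odd m) (K : X → Prop) [DecidablePred K]
    (hKc : ∀ g h : X, K (h * g * h⁻¹) ↔ K g) (hKi : ∀ z, K z → K z⁻¹)
    (hcl : ∀ z, K z → 2 ^ e ∣ (Subgroup.centralizer ({z} : Set X)).index)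
    {u : ℕ} (hu : Odd u) (hcard : (Finset.univ.filter K).card = 2 ^ e * u)
    {q : ℕ} (hq : Odd q) (hpc : ∀ z, K z → pairCount z = q) :
    ¬ MemLocalIdeal M (∑ θ ∈ (Finset.univ : Finset (IrrCharacter X)).filter
        (fun θ : IrrCharacter X => 2 ^ e ∣ charDegree (θ : X → ℂ)),
      twoScalar e (θ : X → ℂ) ^ 4 *
        omegaC (θ : X → ℂ) (mkGA fun z => if K z then 1 else 0) ^ 2) := by
  classical
  have := isPrime_of_pmodular hM
  have : Fact (Nat.Prime 2) := ⟨Nat.prime_two⟩
  have := charP_kres hM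
  set ω : IrrCharacter X → ℂ :=
    fun θ => omegaC (θ : X → ℂ) (mkGA fun z => if K z then 1 else 0) with hω
  set r : IrrCharacter X → ℂ := fun θ => twoScalar e (θ : X → ℂ) with hr
  have hrR : ∀ θ, MemLocalRing M (r θ) := fun θ =>
    twoScalar_memLocalRing hM hX (CfsgLib.Char.irr_isCharacter θ.2)
  have hωR : ∀ θ, MemLocalRing M (ω θ) := fun θ => omega_indicator_ring K hKc θ
  have h2 : ((2 ^ e : ℕ) : ℂ) ≠ 0 := by exact_mod_cast (by positivity : 2 ^ e ≠ 0)
  -- the identity at one element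
  have key : ∀ z : X, ∑ θ : IrrCharacter X, r θ ^ 2 * ((θ : X → ℂ) z / (θ : X → ℂ) 1) =
      (m : ℂ) * pairCount z⁻¹ / (2 ^ e : ℕ) := by
    intro z
    have hc := mkGA_isClassCoeff (pEltInd_isClassFunction (G := X) 2)
    have h := sum_irr_omegaC (isClassCoeff_iff_mem_center.2 (Subalgebra.mul_mem _
      (isClassCoeff_iff_mem_center.1 hc) (isClassCoeff_iff_mem_center.1 hc))) z⁻¹
    have hcoeff : (mkGA (pEltInd (G := X) 2) * mkGA (pEltInd (G := X) 2)).coeff z⁻¹ =
        (pairCount z⁻¹ : ℂ) := by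
      rw [coeff_mul_eq, pairCount, Finset.natCast_card_filter]
      refine Finset.sum_congr rfl fun x _ => ?_
      simp only [coeff_mkGA, pEltInd]
      split_ifs <;> simp_all
    rw [hcoeff, hX] at h
    rw [eq_div_iff h2, Finset.sum_mul]
    have h' : ((2 ^ e : ℕ) : ℂ) * ((m : ℂ) * pairCount z⁻¹) = ∑ θ : IrrCharacter X,
        ((2 ^ e : ℕ) : ℂ) * (r θ ^ 2 * ((θ : X → ℂ) z / (θ : X → ℂ) 1) * (2 ^ e : ℕ)) := by
      rw [← mul_assoc, ← Nat.cast_mul, ← h]
      refine Finset.sum_congr rfl fun θ _ => ?_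
      rw [omegaC_mul θ.2 hc, omegaC_mkGA, inv_inv, hr]
      have h1 := CfsgLib.Char.irr_apply_one_ne_zero θ.2
      simp only [twoScalar]
      field_simp
    rw [← Finset.mul_sum] at h'
    exact mul_left_cancel₀ h2 h'.symm
  -- the sum over `K`
  have hsum : ∑ θ : IrrCharacter X, r θ ^ 2 * ω θ = ((m * q * u : ℕ) : ℂ) := by
    have hω' : ∀ θ : IrrCharacter X, ω θ = ∑ z ∈ Finset.univ.filter K,
        (θ : X → ℂ) z / (θ : X → ℂ) 1 := by
      intro θ
      rw [hω]
      simp only [omegaC_mkGA, ite_mul, one_mul, zero_mul, ← Finset.sum_filter, Finset.sum_div]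
    simp only [hω', Finset.mul_sum]
    rw [Finset.sum_comm, Finset.sum_congr rfl (g := fun _ => (m : ℂ) * q / (2 ^ e : ℕ))
      fun z hz => by rw [key, hpc _ (hKi z (Finset.mem_filter.1 hz).2)],
      Finset.sum_const, hcard, nsmul_eq_mul]
    push_cast
    field_simp
  -- reduce modulo two
  intro hbad
  let zz : IrrCharacter X → lring M := fun θ =>
    ⟨r θ ^ 2 * ω θ, memLocalRing_mul (Subring.pow_mem (lring M) (hrR θ) 2) (hωR θ)⟩
  have hsum' : ∑ θ, zz θ = ((m * q * u : ℕ) : lring M) := by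
    apply Subtype.ext
    push_cast
    simp only [zz]
    rw [hsum]
    push_cast
    rfl
  have hone : red M (∑ θ, zz θ) = 1 := by
    obtain ⟨c, hc⟩ := (hm.mul hq).mul hu
    rw [hsum', map_natCast, hc, Nat.cast_add, Nat.cast_mul,
      CharP.cast_eq_zero (kres M) 2, zero_mul, zero_add, Nat.cast_one]
  have hall : red M (∑ θ, zz θ ^ 2) = 1 := by
    simp only [map_sum, map_pow]
    rw [← sum_pow_char 2, ← map_sum, hone, one_pow]
  have hrest : red M (∑ θ ∈ (Finset.univ : Finset (IrrCharacter X)).filter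
        (fun θ : IrrCharacter X => ¬ 2 ^ e ∣ charDegree (θ : X → ℂ)), zz θ ^ 2) = 0 := by
    rw [map_sum]
    refine Finset.sum_eq_zero fun θ hθ => ?_
    rw [map_pow, sq_eq_zero_iff, red_eq_zero]
    exact memLocalIdeal_mul_left (Subring.pow_mem (lring M) (hrR θ) 2)
      (omega_indicator_mem hM K hKc hcl θ (Finset.mem_filter.1 hθ).2)
  have hfull : red M (∑ θ ∈ (Finset.univ : Finset (IrrCharacter X)).filter
        (fun θ : IrrCharacter X => 2 ^ e ∣ charDegree (θ : X → ℂ)), zz θ ^ 2) = 0 := by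
    rw [red_eq_zero]
    convert hbad using 1
    rw [AddSubmonoidClass.coe_finsetSum]
    refine Finset.sum_congr rfl fun θ _ => ?_
    simp only [zz, hr, hω, SubmonoidClass.coe_pow]
    ring
  rw [← Finset.sum_filter_add_sum_filter_not Finset.univ
    (fun θ : IrrCharacter X => 2 ^ e ∣ charDegree (θ : X → ℂ)), map_add, hfull, hrest,
    add_zero] at hall
  exact zero_ne_one hall

end CfsgLib.SigmaFixed
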